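import Groth.Agent.Lib.KInj.Derived
import Mathlib.Algebra.Homology.DerivedCategory.TStructure
import Mathlib.CategoryTheory.Abelian.GrothendieckAxioms.Basic
import Mathlib.CategoryTheory.Abelian.FunctorCategory

/-! Cohomology objects commute with coproducts. -/

set_option autoImplicit false
set_option linter.style.haveILetI false
set_option linter.unusedSectionVars false
set_option backward.isDefEq.respectTransparency false
set_option backward.isDefEq.respectTransparency.types false

universe v u w

open CategoryTheory CategoryTheory.Limits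

namespace Groth.Agent.DPush

variable {A : Type u} [Category.{v} A] [Abelian A] [IsGrothendieckAbelian.{v} A] {T : Type v}

theorem preservesColimit_homology_cx (F : T → CochainComplex A ℤ) (i : ℤ) :
    PreservesColimit (Discrete.functor F)
      (HomologicalComplex.homologyFunctor A (ComplexShape.up ℤ) i) := by
  have : HasFiniteBiproducts A := Abelian.hasFiniteBiproducts
  have : AB4OfSize.{v} A := AB4.of_AB5 A
  refine preservesColimit_of_preserves_colimit_cocone (coproductIsCoproduct F) ?_
  refine (isColimitMapCoconeCofanMkEquiv _ _ _).symm ?_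
  let S : ShortComplex (Discrete T ⥤ A) :=
    ShortComplex.mk (X₁ := Discrete.functor fun a => (F a).X (i - 1))
      (X₂ := Discrete.functor fun a => (F a).X i) (X₃ := Discrete.functor fun a => (F a).X (i + 1))
      (Discrete.natTrans fun a => (F a.as).d (i - 1) i) (Discrete.natTrans fun a => (F a.as).d i (i + 1))
      (by ext a; simp)
  let ev : ∀ k, colim.obj (Discrete.functor fun a => (F a).X k) ≅ (∐ F).X k := fun k =>
    (PreservesCoproduct.iso (HomologicalComplex.eval A (ComplexShape.up ℤ) k) F).symm
  have hev : ∀ k a, colimit.ι (Discrete.functor fun a => (F a).X k) ⟨a⟩ ≫ (ev k).hom =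
      (Sigma.ι F a).f k := fun k a => by
    simp only [ev, Iso.symm_hom, PreservesCoproduct.inv_hom]
    exact ι_comp_sigmaComparison (HomologicalComplex.eval A (ComplexShape.up ℤ) k) F a
  have hd : ∀ k l (α : (Discrete.functor fun a => (F a).X k) ⟶ Discrete.functor fun a => (F a).X l),
      (∀ a, α.app ⟨a⟩ = (F a).d k l) → colimMap α ≫ (ev l).hom = (ev k).hom ≫ (∐ F).d k l := by
    intro k l α hα
    refine colimit.hom_ext fun ⟨a⟩ => ?_
    rw [ι_colimMap_assoc, hev, hα a, reassoc_of% (hev k a), ← (Sigma.ι F a).comm]
  let e : S.map colim ≅ (∐ F).sc' (i - 1) i (i + 1) :=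
    ShortComplex.isoMk (ev (i - 1)) (ev i) (ev (i + 1))
      (hd (i - 1) i S.f fun _ => rfl).symm (hd i (i + 1) S.g fun _ => rfl).symm
  let eH : colimit S.homology ≅ (∐ F).homology i :=
    (S.mapHomologyIso colim).symm ≪≫ ShortComplex.homologyMapIso e ≪≫
      ((∐ F).homologyIsoSc' (i - 1) i (i + 1) (by simp) (by simp)).symm
  let evF : ∀ a : T, (Discrete T ⥤ A) ⥤ A := fun a => (evaluation _ _).obj ⟨a⟩
  let τ : ∀ a : T, evF a ⟶ colim :=
    fun a => { app := fun G => colimit.ι G ⟨a⟩, naturality := fun G H f => (ι_colimMap f ⟨a⟩).symm }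
  let ψ : ∀ a : T, S.homology.obj ⟨a⟩ ≅ (F a).homology i := fun a =>
    (S.mapHomologyIso (evF a)).symm ≪≫ ((F a).homologyIsoSc' (i - 1) i (i + 1) (by simp) (by simp)).symm
  have key : ∀ a, colimit.ι S.homology ⟨a⟩ ≫ eH.hom =
      (ψ a).hom ≫ HomologicalComplex.homologyMap (Sigma.ι F a) i := fun a => by
    have h : colimit.ι S.homology ⟨a⟩ = (τ a).app S.homology := rfl
    have hc : S.mapNatTrans (τ a) ≫ e.hom = (HomologicalComplex.shortComplexFunctor' A (ComplexShape.up ℤ) (i - 1) i (i + 1)).map (Sigma.ι F a) := by
      ext <;> exact hev _ a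
    rw [h, NatTrans.app_homology]
    simp only [eH, ψ, Iso.trans_hom, Iso.symm_hom, ShortComplex.homologyMapIso_hom, Category.assoc,
      Iso.hom_inv_id_assoc]
    congr 1
    rw [← Category.assoc, ← ShortComplex.homologyMap_comp, hc]
    change ShortComplex.homologyMap _ ≫ ShortComplex.homologyMap _ = ShortComplex.homologyMap _ ≫ ShortComplex.homologyMap _
    rw [← ShortComplex.homologyMap_comp, ← ShortComplex.homologyMap_comp]
    congr 1
    ext <;> simp [HomologicalComplex.isoSc']
  refine Cofan.IsColimit.mk _ (fun s => eH.inv ≫ colimit.desc S.homology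
    ⟨s.pt, Discrete.natTrans fun a => (ψ a.as).hom ≫ s.inj a.as⟩) (fun s a => ?_) (fun s m hm => ?_)
  · dsimp
    rw [← cancel_epi (ψ a).hom]
    refine ((reassoc_of% (key a)) _).symm.trans ?_
    rw [Iso.hom_inv_id_assoc, colimit.ι_desc]
    rfl
  · rw [← cancel_epi eH.hom, Iso.hom_inv_id_assoc]
    refine colimit.hom_ext fun ⟨a⟩ => ?_
    rw [colimit.ι_desc]
    exact ((reassoc_of% (key a)) _).trans (congrArg ((ψ a).hom ≫ ·) (hm a))

variable [HasDerivedCategory.{w} A]

instance preservesColimitsOfShape_homology (q : ℤ) :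
    PreservesColimitsOfShape (Discrete T) (DerivedCategory.homologyFunctor A q) :=
  haveI : ∀ K : T → DerivedCategory A,
      PreservesColimit (Discrete.functor K) (DerivedCategory.homologyFunctor A q) := fun K => by
    let F : T → CochainComplex A ℤ := fun a => DerivedCategory.Q.objPreimage (K a)
    let e : Discrete.functor (fun a => DerivedCategory.Q.obj (F a)) ≅ Discrete.functor K :=
      Discrete.natIso fun a => DerivedCategory.Q.objObjPreimageIso (K a.as)
    have : PreservesColimit (Discrete.functor F) (DerivedCategory.Q ⋙ DerivedCategory.homologyFunctor A q) :=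
      haveI := preservesColimit_homology_cx F q
      preservesColimit_of_natIso _ (DerivedCategory.homologyFunctorFactors A q).symm
    haveI : PreservesColimit (Discrete.functor fun a => DerivedCategory.Q.obj (F a))
        (DerivedCategory.homologyFunctor A q) :=
      preservesColimit_of_preserves_colimit_cocone (KInjLib.isColimitSigma F)
        ((isColimitMapCoconeCofanMkEquiv _ _ _).symm
          (isColimitCofanMkObjOfIsColimit (DerivedCategory.Q ⋙ DerivedCategory.homologyFunctor A q) F (Sigma.ι F)
            (coproductIsCoproduct F)))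
    exact preservesColimit_of_iso_diagram _ e
  preservesColimitsOfShape_of_discrete _

theorem isIso_map_sigma {K L : T → DerivedCategory A} [HasCoproduct K] [HasCoproduct L] (φ : ∀ a, K a ⟶ L a)
    (q : ℤ) (h : ∀ a, IsIso ((DerivedCategory.homologyFunctor A q).map (φ a))) :
    IsIso ((DerivedCategory.homologyFunctor A q).map (Limits.Sigma.map φ)) := by
  let H := DerivedCategory.homologyFunctor A q
  have w : sigmaComparison H K ≫ H.map (Limits.Sigma.map φ) =
      Limits.Sigma.map (fun a => H.map (φ a)) ≫ sigmaComparison H L :=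
    Sigma.hom_ext _ _ fun a => by simp [← Functor.map_comp]
  haveI : IsIso (Limits.Sigma.map fun a => H.map (φ a)) :=
    ⟨Limits.Sigma.map fun a => inv (H.map (φ a)), Sigma.hom_ext _ _ fun a => by simp,
      Sigma.hom_ext _ _ fun a => by simp⟩
  haveI : IsIso (sigmaComparison H K ≫ H.map (Limits.Sigma.map φ)) := by rw [w]; infer_instance
  exact IsIso.of_isIso_comp_left (sigmaComparison H K) _

theorem isZero_homology_sigma (K : T → DerivedCategory A) [HasCoproduct K] (q : ℤ)
    (h : ∀ a, IsZero ((DerivedCategory.homologyFunctor A q).obj (K a))) :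
    IsZero ((DerivedCategory.homologyFunctor A q).obj (∐ K)) := by
  rw [IsZero.iff_id_eq_zero, ← cancel_epi (sigmaComparison (DerivedCategory.homologyFunctor A q) K)]
  exact Sigma.hom_ext _ _ fun a => (h a).eq_of_src _ _

theorem isGE_sigma (K : T → DerivedCategory A) [HasCoproduct K] (a : ℤ) (h : ∀ i, (K i).IsGE a) :
    (∐ K).IsGE a :=
  (DerivedCategory.isGE_iff _ _).2 fun q hq => isZero_homology_sigma K q fun i =>
    haveI := h i
    DerivedCategory.isZero_of_isGE _ a q hq

end Groth.Agent.DPush
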