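import Groth.Agent.Lib.DPush.Local
import Groth.Agent.Lib.DQC.Pull
import Groth.Agent.Lib.DPerf.Noeth
import Groth.Agent.Lib.CohFound.RpushQCoh
import Groth.Agent.Lib.SiteCmp16.CohIn
import Groth.Agent.Lib.SitePAdj16.Single

/-! Derived direct images of objects with quasi-coherent cohomology along qcqs morphisms. -/

set_option autoImplicit false
set_option linter.style.haveILetI false
set_option linter.unusedSectionVars false
set_option backward.isDefEq.respectTransparency false
set_option backward.isDefEq.respectTransparency.types false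

universe u

open CategoryTheory CategoryTheory.Limits AlgebraicGeometry TopologicalSpace Opposite CategoryTheory.Triangulated
open DerivedCategory.TStructure ZeroObject

namespace Groth.Agent.DPush

attribute [local instance] HasDerivedCategory.standard

/-- Quasi-coherent modules form a weak Serre class. -/
instance isWeakSerre_isQCoh (X : Scheme.{u}) :
    WSerre.IsWeakSerre (fun M : X.Modules => Coh.IsQCoh M) where
  exists_zero :=
    ⟨kernel (𝟙 (Coh.structureModule X)), isZero_kernel_of_mono _,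
      M1.isQCoh_kernel (M1.isQCoh_structureModule X) (M1.isQCoh_structureModule X) _⟩
  kernels_le := by
    rintro _ ⟨φ, k, hk, hM, hN⟩
    exact M1.isQCoh_of_isIso ((kernelIsKernel φ).conePointUniqueUpToIso hk) (M1.isQCoh_kernel hM hN φ)
  cokernels_le := by
    rintro _ ⟨φ, k, hk, hM, hN⟩
    exact M1.isQCoh_of_isIso ((cokernelIsCokernel φ).coconePointUniqueUpToIso hk) (M1.isQCoh_cokernel hM hN φ)
  prop_X₂_of_shortExact hS h₁ h₃ := M1.isQCoh_of_shortExact hS h₁ h₃

/-- The zero module is quasi-coherent. -/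
theorem isQCoh_of_isZero {X : Scheme.{u}} {M : X.Modules} (h : IsZero M) : Coh.IsQCoh M :=
  M1.isQCoh_of_isIso ((isZero_kernel_of_mono (𝟙 (Coh.structureModule X))).iso h)
    (M1.isQCoh_kernel (M1.isQCoh_structureModule X) (M1.isQCoh_structureModule X) _)

variable {X S : Scheme.{u}} (f : X ⟶ S) [QuasiCompact f] [QuasiSeparated f]

/-- A uniform bound for cohomology over the preimages of the basic opens of an affine open. -/
theorem exists_hc_bound {V : S.Opens} (hV : IsAffineOpen V) :
    ∃ d : ℕ, ∀ (M : X.Modules), Coh.IsQCoh M → ∀ p, d ≤ p → ∀ g : Γ(S, V),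
      Subsingleton (CohFound.Hc ((CohFound.abF X).obj M) p (f ⁻¹ᵁ S.basicOpen g)) := by
  have : IsAffine (V : Scheme.{u}) := hV
  have : CompactSpace (f ⁻¹ᵁ V : X.Opens) :=
    isCompact_iff_compactSpace.mp (QuasiCompact.isCompact_preimage _ V.isOpen hV.isCompact)
  have : QuasiSeparatedSpace (f ⁻¹ᵁ V : X.Opens) := quasiSeparatedSpace_of_quasiSeparated (f ∣_ V)
  let j := (f ⁻¹ᵁ V).ι
  obtain ⟨d, hd⟩ := CohFound.exists_vanishing_bound (X := ((f ⁻¹ᵁ V : X.Opens) : Scheme.{u})) (U := ⊤)
    (by simpa using isCompact_univ)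
  refine ⟨d, fun M hM p hp g => ?_⟩
  have h := hd (M.restrict j) (M1.isQCoh_restrict hM j) p hp (j ⁻¹ᵁ (f ⁻¹ᵁ V)) (j.app _ (f.app V g))
    (by intro x _; exact x.2)
  obtain ⟨e⟩ := CohFound.nonempty_hc_abF_restrict j M p (⊤ ⊓ (f ⁻¹ᵁ V).toScheme.basicOpen (j.app _ (f.app V g)))
  have he : j ''ᵁ (⊤ ⊓ (f ⁻¹ᵁ V).toScheme.basicOpen (j.app _ (f.app V g))) = f ⁻¹ᵁ S.basicOpen g := by
    rw [top_inf_eq, ← Scheme.preimage_basicOpen, Scheme.Hom.image_preimage_eq_opensRange_inf,
      Scheme.Opens.opensRange_ι, ← Scheme.preimage_basicOpen]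
    exact inf_eq_right.2 (f.preimage_mono (S.basicOpen_le g))
  rw [he] at e
  exact e.toEquiv.symm.subsingleton

/-- No higher extensions out of the preimages of basic opens. -/
theorem exists_ext_bound {V : S.Opens} (hV : IsAffineOpen V) :
    ∃ d : ℕ, ∀ (M : X.Modules), Coh.IsQCoh M → ∀ p, d ≤ p → ∀ g : Γ(S, V),
      Subsingleton (Abelian.Ext.{u} ((DQC.gen X).obj (f ⁻¹ᵁ S.basicOpen g)) M p) := by
  obtain ⟨d, hd⟩ := exists_hc_bound f hV
  exact ⟨d, fun M hM p hp g => SiteRlim.subsingleton_ext_freeOn X.sheaf _ M p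
    ((CohFound.huExt ((CohFound.abF X).obj M) p _).toEquiv.subsingleton_congr.2 (hd M hM p hp g))⟩

/-- Classes over preimages of basic opens only see a truncation. -/
theorem exists_bijective_truncTower {V : S.Opens} (hV : IsAffineOpen V) :
    ∃ d : ℕ, ∀ (K : DCoh.D X), DCoh.IsQCohD K → ∀ (m : ℤ) (n : ℕ), (d : ℤ) - m ≤ n → ∀ g : Γ(S, V),
      Function.Bijective fun x : (DerivedCategory.singleFunctor X.Modules m).obj
        ((DQC.gen X).obj (f ⁻¹ᵁ S.basicOpen g)) ⟶ K => x ≫ CohCx.toTruncTower K n := by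
  obtain ⟨d, hd⟩ := exists_ext_bound f hV
  refine ⟨d, fun K hK m n hn g => ?_⟩
  haveI := DQC.hasProduct_nat (CohCx.truncTower K)
  have hst : SiteRlim.Stable (CohCx.truncTower K) (CohCx.truncTowerMap K) m n
      ((DQC.gen X).obj (f ⁻¹ᵁ S.basicOpen g)) :=
    SiteRlim.stable_truncTower K m n fun n' hn' k _ _ => hd _ (hK _) k (by omega) g
  exact hst.bijective (DQC.isRlimVia_truncTower K hK)

variable [DCoh.HasRpush f]

/-- Bijectivity on classes transports to derived direct images. -/
theorem bijective_map_classes {K K' : DCoh.D X} (φ : K ⟶ K') (m : ℤ) (W : S.Opens)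
    (h : Function.Bijective fun x : (DerivedCategory.singleFunctor X.Modules m).obj
      ((DQC.gen X).obj (f ⁻¹ᵁ W)) ⟶ K => x ≫ φ) :
    Function.Bijective fun x : (DerivedCategory.singleFunctor S.Modules m).obj ((DQC.gen S).obj W) ⟶
      (DCoh.Rpush f).obj K => x ≫ (DCoh.Rpush f).map φ := by
  let adj := Scheme.Modules.pullbackPushforwardAdjunction f
  have ht := fun K'' => SitePAdj.bijective_transpose adj (unit f) KInjLib.enoughKInj_of_grothendieck
    (isQuasiLiftable_adapted f) (adapted_gen f W) m K''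
  let σ := (DerivedCategory.singleFunctor X.Modules m).mapIso (pullGenIso f W)
  have h' : Function.Bijective fun x : (DerivedCategory.singleFunctor X.Modules m).obj
      ((Scheme.Modules.pullback f).obj ((DQC.gen S).obj W)) ⟶ K => x ≫ φ := by
    convert (Iso.homCongr σ (Iso.refl K')).bijective.comp (h.comp (Iso.homCongr σ.symm (Iso.refl K)).bijective) using 1
    funext x
    simp [Iso.homCongr]
  have hc : (fun x => x ≫ (DCoh.Rpush f).map φ) ∘
      (SitePAdj.transpose adj (unit f) : ((DerivedCategory.singleFunctor X.Modules m).obj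
        ((Scheme.Modules.pullback f).obj ((DQC.gen S).obj W)) ⟶ K) → _) =
      SitePAdj.transpose adj (unit f) ∘ fun x => x ≫ φ :=
    funext fun x => (SitePAdj.transpose_comp adj (unit f) x φ).symm
  exact (Function.Bijective.of_comp_iff _ (ht K)).1 (hc ▸ (ht K').comp h')

/-- The basic opens of an affine open form a basis inside it. -/
theorem basis_basicOpen {V : S.Opens} (hV : IsAffineOpen V) :
    ∀ U : S.Opens, U ≤ V → ∀ x ∈ U, ∃ W ∈ Set.range (fun g : Γ(S, V) => S.basicOpen g), x ∈ W ∧ W ≤ U := by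
  intro U hU x hx
  obtain ⟨g, hgU, hxg⟩ := hV.exists_basicOpen_le ⟨x, hx⟩ (hU hx)
  exact ⟨_, ⟨g, rfl⟩, hxg, hgU⟩

omit [QuasiCompact f] [QuasiSeparated f] in
/-- `Rf_*` is left t-exact. -/
theorem isGE_rpush (Y : DCoh.D X) (a : ℤ) (hY : Y.IsGE a) : ((DCoh.Rpush f).obj Y).IsGE a :=
  SitePAdj.isGE_obj (Scheme.Modules.pullbackPushforwardAdjunction f) (unit f)
    KInjLib.enoughKInj_of_grothendieck (isQuasiLiftable_adapted f) (DQC.localGen_gen S) (adapted_gen f) Y a

/-- The bounded below case. -/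
theorem isQCohD_rpush_of_isGE (K : DCoh.D X) (a : ℤ) (hK : K.IsGE a) (hq : DCoh.IsQCohD K) :
    DCoh.IsQCohD ((DCoh.Rpush f).obj K) := by
  obtain ⟨_, _⟩ := exists_commShift_isTriangulated f
  refine WayOut.cohIn_obj_of_isGE (fun M : S.Modules => Coh.IsQCoh M) (fun M : X.Modules => Coh.IsQCoh M)
    (DCoh.Rpush f) (isGE_rpush f) (fun M hM q => ?_) K a hK hq
  by_cases h0 : q < 0
  · have := isGE_rpush f ((DerivedCategory.singleFunctor X.Modules 0).obj M) 0 inferInstance
    exact isQCoh_of_isZero (DerivedCategory.isZero_of_isGE _ 0 q h0)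
  · obtain ⟨p, rfl⟩ : ∃ p : ℕ, q = p := ⟨q.toNat, by omega⟩
    obtain ⟨e⟩ := SitePAdj.nonempty_homology_single_iso (unit f) KInjLib.enoughKInj_of_grothendieck M p
    exact M1.isQCoh_of_isIso e.symm (CohFound.isQCoh_rpush f hM p)

/-- `Rf_*` preserves quasi-coherent cohomology for qcqs `f`. -/
theorem isQCohD_rpush (K : DCoh.D X) (hK : DCoh.IsQCohD K) : DCoh.IsQCohD ((DCoh.Rpush f).obj K) := by
  intro m
  have hcov : ∀ x : S, ∃ (V : S.Opens), x ∈ V ∧ IsAffineOpen V := fun x => by
    obtain ⟨V, hV, hxV, -⟩ := TopologicalSpace.Opens.isBasis_iff_nbhd.1 S.isBasis_affineOpens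
      (TopologicalSpace.Opens.mem_top x)
    exact ⟨V, hxV, hV⟩
  choose V hxV hV using hcov
  refine M1.isQCoh_of_openImmersion_cover (j := fun x => (V x).ι) (fun x => ⟨x, ⟨x, hxV x⟩, rfl⟩) fun x => ?_
  obtain ⟨d, hd⟩ := exists_bijective_truncTower f (hV x)
  let n := ((d : ℤ) - m).toNat
  haveI := isIso_restrict_homology (B := Set.range fun g : Γ(S, V x) => S.basicOpen g)
    (basis_basicOpen (hV x)) ((DCoh.Rpush f).map (CohCx.toTruncTower K n)) m (by
      rintro _ ⟨g, rfl⟩
      exact bijective_map_classes f _ m _ (hd K hK m n (by omega) g))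
  have hq : DCoh.IsQCohD ((DCoh.Rpush f).obj (CohCx.truncTower K n)) := by
    refine isQCohD_rpush_of_isGE f _ (-(n : ℤ)) inferInstance fun q => ?_
    by_cases hq : -(n : ℤ) ≤ q
    · haveI := SiteRlim.isIso_homology_toTruncTower K n q hq
      exact M1.isQCoh_of_isIso
        (asIso ((DerivedCategory.homologyFunctor X.Modules q).map (CohCx.toTruncTower K n))) (hK q)
    · exact isQCoh_of_isZero (SiteRlim.isZero_homology_truncTower K n q (by omega))
  exact M1.isQCoh_of_isIso
    (asIso ((Scheme.Modules.restrictFunctor (V x).ι).map ((DerivedCategory.homologyFunctor S.Modules m).map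
      ((DCoh.Rpush f).map (CohCx.toTruncTower K n))))).symm (M1.isQCoh_restrict (hq m) _)

/-- Vanishing above a bound over an affine open. -/
theorem exists_bound_affine {V : S.Opens} (hV : IsAffineOpen V) :
    ∃ d : ℕ, ∀ (E : DCoh.D X), DCoh.IsQCohD E → ∀ b : ℤ, E.IsLE b → ∀ m : ℤ, b + d ≤ m →
      IsZero ((DCoh.HD ((DCoh.Rpush f).obj E) m).restrict V.ι) := by
  obtain ⟨d₁, hd₁⟩ := exists_bijective_truncTower f hV
  obtain ⟨d₂, hd₂⟩ := exists_ext_bound f hV
  refine ⟨d₂, fun E hE b hb m hm => ?_⟩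
  let n := ((d₁ : ℤ) - m).toNat
  haveI := isIso_restrict_homology (B := Set.range fun g : Γ(S, V) => S.basicOpen g)
    (basis_basicOpen hV) (0 : (DCoh.Rpush f).obj E ⟶ 0) m (by
      rintro _ ⟨g, rfl⟩
      let adj := Scheme.Modules.pullbackPushforwardAdjunction f
      have h1 : Subsingleton ((DerivedCategory.singleFunctor X.Modules m).obj
          ((DQC.gen X).obj (f ⁻¹ᵁ S.basicOpen g)) ⟶ E) := by
        suffices _ from @Function.Injective.subsingleton _ _ _ (hd₁ E hE m n (by omega) g).1 this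
        refine SiteRlim.subsingleton_hom_of_homology m _ (-(n : ℤ)) inferInstance fun q hq => ?_
        by_cases hqn : -(n : ℤ) ≤ q
        · haveI := SiteRlim.isIso_homology_toTruncTower E n q hqn
          refine ((DerivedCategory.singleFunctor X.Modules q).mapIso
            (asIso ((DerivedCategory.homologyFunctor X.Modules q).map (CohCx.toTruncTower E n)))).homToEquiv.subsingleton_congr.1 ?_
          by_cases hqb : q ≤ b
          · obtain ⟨k, hk⟩ : ∃ k : ℕ, q + k = m := ⟨(m - q).toNat, by omega⟩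
            exact SiteRlim.subsingleton_hom_single m q k hk (hd₂ _ (hE q) k (by omega) g)
          · exact ⟨fun x y => ((DerivedCategory.singleFunctor X.Modules q).map_isZero
              (DerivedCategory.isZero_of_isLE E b q (by omega))).eq_of_tgt x y⟩
        · exact ⟨fun x y => ((DerivedCategory.singleFunctor X.Modules q).map_isZero
            (SiteRlim.isZero_homology_truncTower E n q (by omega))).eq_of_tgt x y⟩
      have h2 := (((DerivedCategory.singleFunctor X.Modules m).mapIso (pullGenIso f _)).homCongr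
        (Iso.refl E)).subsingleton_congr.1 h1
      have h3 := (SitePAdj.bijective_transpose adj (unit f) KInjLib.enoughKInj_of_grothendieck
        (isQuasiLiftable_adapted f) (adapted_gen f (S.basicOpen g)) m E).2.subsingleton
      exact ⟨fun x y _ => h3.elim x y, fun y => ⟨0, (isZero_zero _).eq_of_tgt _ _⟩⟩)
  exact ((Scheme.Modules.restrictFunctor V.ι).map_isZero
    ((DerivedCategory.homologyFunctor S.Modules m).map_isZero (isZero_zero _))).of_iso
      (asIso ((Scheme.Modules.restrictFunctor V.ι).map ((DerivedCategory.homologyFunctor S.Modules m).map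
        (0 : (DCoh.Rpush f).obj E ⟶ 0))))

/-- A uniform bound over a quasi-compact base. -/
theorem exists_bound [CompactSpace S] :
    ∃ N : ℕ, ∀ (E : DCoh.D X), DCoh.IsQCohD E → ∀ b : ℤ, E.IsLE b → ∀ m : ℤ, b + N ≤ m →
      IsZero (DCoh.HD ((DCoh.Rpush f).obj E) m) := by
  have hcov : ∀ x : S, ∃ (V : S.Opens), x ∈ V ∧ IsAffineOpen V := fun x => by
    obtain ⟨V, hV, hxV, -⟩ := TopologicalSpace.Opens.isBasis_iff_nbhd.1 S.isBasis_affineOpens
      (TopologicalSpace.Opens.mem_top x)
    exact ⟨V, hxV, hV⟩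
  choose V hxV hV using hcov
  obtain ⟨t, ht⟩ := isCompact_univ.elim_finite_subcover (fun x : S => (V x : Set S)) (fun x => (V x).2)
    fun x _ => Set.mem_iUnion.2 ⟨x, hxV x⟩
  choose d hd using fun x => exists_bound_affine f (hV x)
  refine ⟨t.sup d, fun E hE b hb m hm => DPerf.isZero_of_cover (fun x : t => V x.1) (fun y => ?_) fun x => ?_⟩
  · obtain ⟨x, hx, hy⟩ := Set.mem_iUnion₂.1 (ht (Set.mem_univ y))
    exact ⟨⟨x, hx⟩, hy⟩
  · exact hd x.1 E hE b hb m (by have := Finset.le_sup (f := d) x.2; omega)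

end Groth.Agent.DPush
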