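import Groth.Agent.Lib.DPush.CoprodHom
import Groth.Agent.Lib.DPush.QCoh
import Groth.Agent.Lib.CohFound.Colim
import Mathlib.CategoryTheory.Limits.Constructions.Filtered

/-! Classes on quasi-compact quasi-separated opens in coproducts come from finitely many summands. -/

set_option autoImplicit false
set_option linter.style.haveILetI false
set_option linter.unusedSectionVars false
set_option backward.isDefEq.respectTransparency false
set_option backward.isDefEq.respectTransparency.types false

universe v u w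

open CategoryTheory CategoryTheory.Limits AlgebraicGeometry TopologicalSpace Opposite CategoryTheory.Triangulated
open DerivedCategory.TStructure Pretriangulated

namespace Groth.Agent.DPush

section General

open scoped Classical

variable {C : Type*} [Category* C] [Preadditive C] {ι : Type*} (K : ι → C) [HasCoproduct K]

/-- The projection of a coproduct onto finitely many summands. -/
noncomputable def finProj (s : Finset ι) : ∐ K ⟶ ∐ K :=
  Sigma.desc fun i => if i ∈ s then Sigma.ι K i else 0

theorem ι_finProj (s : Finset ι) (i : ι) :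
    Sigma.ι K i ≫ finProj K s = if i ∈ s then Sigma.ι K i else 0 :=
  Sigma.ι_desc _ i

theorem finProj_comp_of_subset {s t : Finset ι} (h : s ⊆ t) : finProj K s ≫ finProj K t = finProj K s :=
  Sigma.hom_ext _ _ fun i => by
    rw [← Category.assoc, ι_finProj]
    split_ifs with hi
    · rw [ι_finProj, if_pos (h hi)]
    · rw [zero_comp]

theorem finProj_eq_sum (s : Finset ι) : finProj K s = ∑ i ∈ s, Sigma.π K i ≫ Sigma.ι K i :=
  Sigma.hom_ext _ _ fun i => by
    rw [ι_finProj, Preadditive.comp_sum]
    split_ifs with hi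
    · rw [Finset.sum_eq_single i (fun b _ hb => by rw [Sigma.ι_π_of_ne_assoc K hb.symm, zero_comp])
        (fun h => absurd hi h), Sigma.ι_π_eq_id_assoc]
    · exact (Finset.sum_eq_zero fun b hb => by
        rw [Sigma.ι_π_of_ne_assoc K (show i ≠ b from fun e => hi (by rw [e]; exact hb)), zero_comp]).symm

/-- A map into a coproduct supported on finitely many summands. -/
def FinFac {P : C} (f : P ⟶ ∐ K) : Prop := ∃ s : Finset ι, f ≫ finProj K s = f

theorem FinFac.add {P : C} {f g : P ⟶ ∐ K} (hf : FinFac K f) (hg : FinFac K g) : FinFac K (f + g) := by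
  obtain ⟨s, hs⟩ := hf
  obtain ⟨t, ht⟩ := hg
  refine ⟨s ∪ t, ?_⟩
  rw [Preadditive.add_comp]
  conv_lhs =>
    rw [← hs, ← ht, Category.assoc, Category.assoc, finProj_comp_of_subset K Finset.subset_union_left,
      finProj_comp_of_subset K Finset.subset_union_right, hs, ht]

theorem finFac_finProj {P : C} (f : P ⟶ ∐ K) (s : Finset ι) : FinFac K (f ≫ finProj K s) :=
  ⟨s, by rw [Category.assoc, finProj_comp_of_subset K (Finset.Subset.refl s)]⟩

theorem finFac_zero {P : C} : FinFac K (0 : P ⟶ ∐ K) := ⟨∅, zero_comp⟩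

variable {L : ι → C} [HasCoproduct L]

theorem finProj_map (φ : ∀ i, K i ⟶ L i) (s : Finset ι) :
    finProj K s ≫ Limits.Sigma.map φ = Limits.Sigma.map φ ≫ finProj L s :=
  Sigma.hom_ext _ _ fun i => by
    rw [reassoc_of% (ι_finProj K s i), Sigma.ι_map_assoc, ι_finProj L s i]
    split_ifs <;> simp

variable {K} in
theorem FinFac.map {P : C} {f : P ⟶ ∐ K} (hf : FinFac K f) (φ : ∀ i, K i ⟶ L i) :
    FinFac L (f ≫ Limits.Sigma.map φ) := by
  obtain ⟨s, hs⟩ := hf
  exact ⟨s, by rw [Category.assoc, ← finProj_map, ← Category.assoc, hs]⟩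

theorem finProj_comparison {D : Type*} [Category* D] [Preadditive D] (G : C ⥤ D) [G.Additive]
    [HasCoproduct fun i => G.obj (K i)] (s : Finset ι) :
    finProj (fun i => G.obj (K i)) s ≫ sigmaComparison G K = sigmaComparison G K ≫ G.map (finProj K s) :=
  Sigma.hom_ext _ _ fun i => by
    rw [reassoc_of% (ι_finProj (fun i => G.obj (K i)) s i)]
    simp only [ι_comp_sigmaComparison_assoc, ← Functor.map_comp, ι_finProj]
    split_ifs <;> simp

end General

section Derived

variable {A : Type u} [Category.{v} A] [Abelian A] [HasDerivedCategory.{w} A]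

local notation "HH" => DerivedCategory.homologyFunctor A
local notation "SF" => DerivedCategory.singleFunctor A

/-- Classes in a single complex of a coproduct. -/
theorem exists_finProj_single [HasExt.{v} A] {ι : Type*} {X : A} (M : ι → A) [HasCoproduct M]
    (hX : ∀ (k : ℕ) (x : Abelian.Ext.{v} X (∐ M) k),
      ∃ s, x.comp (Abelian.Ext.mk₀ (finProj M s)) (add_zero k) = x)
    (j q : ℤ) (f : (SF j).obj X ⟶ (SF q).obj (∐ M)) : ∃ s, f ≫ (SF q).map (finProj M s) = f := by
  by_cases h : j < q
  · refine ⟨∅, ?_⟩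
    rw [show f = 0 from t.zero f j q h, zero_comp]
  obtain ⟨k, hk⟩ : ∃ k : ℕ, q + k = j := ⟨(j - q).toNat, by omega⟩
  let S := DerivedCategory.singleFunctors A
  let e₁ : ((SF j).obj X)⟦j⟧ ≅ (SF 0).obj X := (S.shiftIso j 0 j (add_zero j)).app X
  let E₂ : SF q ⋙ shiftFunctor _ j ≅ SF 0 ⋙ shiftFunctor _ (k : ℤ) :=
    (S.shiftIso j (-(k : ℤ)) q (by lia)) ≪≫ (S.shiftIso (k : ℤ) (-(k : ℤ)) 0 (by lia)).symm
  obtain ⟨x, hx⟩ := (Abelian.Ext.homEquiv (X := X) (Y := ∐ M) (n := k)).surjective
    (e₁.inv ≫ f⟦j⟧' ≫ E₂.hom.app (∐ M))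
  obtain ⟨s, hs⟩ := hX k x
  refine ⟨s, (shiftFunctor (DerivedCategory A) j).map_injective ?_⟩
  rw [← cancel_mono (E₂.hom.app (∐ M)), ← cancel_epi e₁.inv]
  have h2 : Abelian.Ext.homEquiv (x.comp (Abelian.Ext.mk₀ (finProj M s)) (add_zero k)) =
      e₁.inv ≫ f⟦j⟧' ≫ E₂.hom.app (∐ M) ≫ ((SF 0).map (finProj M s))⟦(k : ℤ)⟧' := by
    change (x.comp (Abelian.Ext.mk₀ (finProj M s)) (add_zero k)).hom = _
    rw [Abelian.Ext.comp_hom, Abelian.Ext.mk₀_hom, ShiftedHom.comp_mk₀]
    change (Abelian.Ext.homEquiv x) ≫ _ = _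
    rw [hx, Category.assoc, Category.assoc]
  rw [hs, hx] at h2
  rw [Functor.map_comp, Category.assoc]
  exact ((congrArg (e₁.inv ≫ f⟦j⟧' ≫ ·) (E₂.hom.naturality (finProj M s)))).trans h2.symm

variable [IsGrothendieckAbelian.{v} A] {ι : Type v}

theorem hasCoproduct_D (K : ι → DerivedCategory A) : HasCoproduct K :=
  let F : ι → CochainComplex A ℤ := fun a => DerivedCategory.Q.objPreimage (K a)
  haveI : HasColimit (Discrete.functor fun a => DerivedCategory.Q.obj (F a)) :=
    ⟨⟨⟨_, KInjLib.isColimitSigma F⟩⟩⟩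
  hasColimit_of_iso (F := Discrete.functor fun a => DerivedCategory.Q.obj (F a))
    (Discrete.natIso fun a => (DerivedCategory.Q.objObjPreimageIso (K a.as)).symm)

/-- Classes in coproducts of uniformly bounded below objects have finite support. -/
theorem finFac_of_isGE [HasExt.{v} A] {X : A}
    (hX : ∀ (M : ι → A) (k : ℕ) (x : Abelian.Ext.{v} X (∐ M) k),
      ∃ s, x.comp (Abelian.Ext.mk₀ (finProj M s)) (add_zero k) = x) (j : ℤ) :
    ∀ (n : ℕ) (a : ℤ), j < a + n → ∀ (K : ι → DerivedCategory A) [HasCoproduct K],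
      (∀ i, (K i).IsGE a) → ∀ f : (SF j).obj X ⟶ ∐ K, FinFac K f := by
  intro n
  induction n with
  | zero =>
    intro a ha K _ hK f
    haveI := isGE_sigma K a hK
    rw [show f = 0 from t.zero f j a (by omega)]
    exact finFac_zero K
  | succ n ih =>
    intro a ha K _ hK y
    haveI := isGE_sigma K a hK
    let K' : ι → DerivedCategory A := fun i => (t.truncGE (a + 1)).obj (K i)
    let L : ι → DerivedCategory A := fun i => (t.truncLT (a + 1)).obj (K i)
    haveI := hasCoproduct_D K'
    haveI := hasCoproduct_D L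
    let qm : ∐ K ⟶ ∐ K' := Limits.Sigma.map fun i => (t.truncGEπ (a + 1)).app (K i)
    obtain ⟨s, hs⟩ := ih (a + 1) (by omega) K'
      (fun i => (inferInstance : t.IsGE ((t.truncGE (a + 1)).obj (K i)) (a + 1))) (y ≫ qm)
    set z := y - y ≫ finProj K s with hz
    have hzq : z ≫ qm = 0 := by
      simp only [hz, qm, Preadditive.sub_comp, Category.assoc, finProj_map]
      rw [← Category.assoc, hs, sub_self]
    -- the truncation of the coproduct
    haveI : t.IsGE (∐ K') (a + 1) :=
      isGE_sigma K' (a + 1) fun i => (inferInstance : t.IsGE ((t.truncGE (a + 1)).obj (K i)) (a + 1))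
    obtain ⟨c, hc⟩ : ∃ c, (t.truncGEπ (a + 1)).app (∐ K) ≫ c = qm :=
      ⟨t.descTruncGE qm (a + 1), t.π_descTruncGE qm (a + 1)⟩
    haveI : IsIso c := (DerivedCategory.isIso_iff A c).2 fun m => by
      by_cases hm : a + 1 ≤ m
      · haveI : IsIso ((HH m).map qm) := isIso_map_sigma _ m fun i =>
          DerTrunc.isIso_homology_truncGEπ (K i) (a + 1) m hm
        haveI := DerTrunc.isIso_homology_truncGEπ (∐ K) (a + 1) m hm
        haveI : IsIso ((HH m).map ((t.truncGEπ (a + 1)).app (∐ K)) ≫ (HH m).map c) := by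
          rw [← Functor.map_comp, hc]; infer_instance
        exact IsIso.of_isIso_comp_left ((HH m).map ((t.truncGEπ (a + 1)).app (∐ K))) _
      · haveI : DerivedCategory.IsGE ((t.truncGE (a + 1)).obj (∐ K)) (a + 1) :=
          (inferInstance : t.IsGE _ (a + 1))
        exact isIso_of_source_target_iso_zero _
          (DerivedCategory.isZero_of_isGE _ (a + 1) m (by omega)).isoZero
          ((DerivedCategory.isZero_of_isGE (C := A) (∐ K') (a + 1) m (by omega))).isoZero
    obtain ⟨z', hz'⟩ := Triangle.coyoneda_exact₂ _ (t.triangleLTGE_distinguished (a + 1) (∐ K)) z (by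
      change z ≫ (t.truncGEπ (a + 1)).app (∐ K) = 0
      rw [← cancel_mono c, Category.assoc, hc, hzq, zero_comp])
    change z = z' ≫ (t.truncLTι (a + 1)).app (∐ K) at hz'
    let lm : ∐ L ⟶ ∐ K := Limits.Sigma.map fun i => (t.truncLTι (a + 1)).app (K i)
    haveI : t.IsLE (∐ L) a := (DerivedCategory.isLE_iff _ _).2 fun q hq => isZero_homology_sigma L q fun i =>
      haveI : DerivedCategory.IsLE ((t.truncLT (a + 1)).obj (K i)) a :=
        t.isLE_truncLT_obj (K i) (a + 1) a (by lia)
      DerivedCategory.isZero_of_isLE _ a q hq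
    obtain ⟨d, hd⟩ : ∃ d, d ≫ (t.truncLTι (a + 1)).app (∐ K) = lm :=
      ⟨t.liftTruncLT lm a (a + 1) rfl, t.liftTruncLT_ι lm a (a + 1) rfl⟩
    haveI : IsIso d := (DerivedCategory.isIso_iff A d).2 fun m => by
      by_cases hm : m < a + 1
      · haveI : IsIso ((HH m).map lm) := isIso_map_sigma _ m fun i =>
          DerTrunc.isIso_homology_truncLTι (K i) (a + 1) m hm
        haveI := DerTrunc.isIso_homology_truncLTι (∐ K) (a + 1) m hm
        haveI : IsIso ((HH m).map d ≫ (HH m).map ((t.truncLTι (a + 1)).app (∐ K))) := by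
          rw [← Functor.map_comp, hd]; infer_instance
        exact IsIso.of_isIso_comp_right _ ((HH m).map ((t.truncLTι (a + 1)).app (∐ K)))
      · haveI : DerivedCategory.IsLE ((t.truncLT (a + 1)).obj (∐ K)) a :=
          t.isLE_truncLT_obj _ (a + 1) a (by lia)
        exact isIso_of_source_target_iso_zero _
          (DerivedCategory.isZero_of_isLE (C := A) (∐ L) a m (by omega)).isoZero
          (DerivedCategory.isZero_of_isLE _ a m (by omega)).isoZero
    have hL : ∀ i, ∃ M : A, Nonempty (L i ≅ (SF a).obj M) := fun i =>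
      haveI : DerivedCategory.IsLE (L i) a := t.isLE_truncLT_obj (K i) (a + 1) a (by lia)
      haveI : DerivedCategory.IsGE (L i) a :=
        haveI := hK i
        (inferInstance : t.IsGE ((t.truncLT (a + 1)).obj (K i)) a)
      DerivedCategory.exists_iso_singleFunctor_obj_of_isGE_of_isLE (L i) a
    choose M hM using hL
    haveI := hasCoproduct_D fun i => (SF a).obj (M i)
    let φ : ∀ i, (SF a).obj (M i) ⟶ L i := fun i => (hM i).some.inv
    let cmp := sigmaComparison (SF a) M
    haveI : IsIso cmp := (DerivedCategory.isIso_iff A cmp).2 fun m => by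
      haveI : IsIso (sigmaComparison (HH m) fun i => (SF a).obj (M i)) := inferInstance
      have w : sigmaComparison (HH m) (fun i => (SF a).obj (M i)) ≫ (HH m).map cmp =
          sigmaComparison (SF a ⋙ HH m) M :=
        Sigma.hom_ext _ _ fun i => by
          simp [cmp, ← Functor.map_comp]
          exact (ι_comp_sigmaComparison (SF a ⋙ HH m) M i).symm
      by_cases hm : m = a
      · subst hm
        haveI : PreservesColimit (Discrete.functor M) (SF m ⋙ HH m) :=
          preservesColimit_of_natIso _ (DerivedCategory.singleFunctorCompHomologyFunctorIso A m).symm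
        haveI : IsIso (sigmaComparison (HH m) (fun i => (SF m).obj (M i)) ≫ (HH m).map cmp) := by
          rw [w]; infer_instance
        exact IsIso.of_isIso_comp_left (sigmaComparison (HH m) fun i => (SF m).obj (M i)) _
      · have hzero : ∀ N : A, IsZero ((HH m).obj ((SF a).obj N)) := fun N => by
          rcases lt_or_gt_of_ne hm with h | h
          · exact DerivedCategory.isZero_of_isGE _ a m h
          · exact DerivedCategory.isZero_of_isLE _ a m h
        exact isIso_of_source_target_iso_zero _
          (isZero_homology_sigma _ m fun i => hzero (M i)).isoZero (hzero _).isoZero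
    obtain ⟨w, hw⟩ : ∃ w, w ≫ inv cmp ≫ Limits.Sigma.map φ ≫ d = z' :=
      ⟨z' ≫ inv d ≫ Limits.Sigma.map (fun i => (hM i).some.hom) ≫ cmp, by
        have : Limits.Sigma.map (fun i => (hM i).some.hom) ≫ Limits.Sigma.map φ = 𝟙 (∐ L) :=
          Sigma.hom_ext _ _ fun i => by simp [φ]
        simp [reassoc_of% this]⟩
    obtain ⟨r, hr⟩ := exists_finProj_single M (hX M) j a w
    have hf : FinFac (fun i => (SF a).obj (M i)) (w ≫ inv cmp) := by
      refine ⟨r, ?_⟩
      rw [Category.assoc, show inv cmp ≫ finProj (fun i => (SF a).obj (M i)) r = (SF a).map (finProj M r) ≫ inv cmp by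
        rw [← cancel_epi cmp, IsIso.hom_inv_id_assoc, ← Category.assoc, ← finProj_comparison, Category.assoc,
          IsIso.hom_inv_id, Category.comp_id], ← Category.assoc, hr]
    have hzf : FinFac K z := by
      rw [hz', ← hw, Category.assoc, Category.assoc, Category.assoc, hd, ← Category.assoc w]
      exact (hf.map φ).map _ |> fun h => by simpa only [Category.assoc] using h
    have := hzf.add K (finFac_finProj K y s)
    rwa [hz, sub_add_cancel] at this

end Derived

section Scheme

open CoproductsFromFiniteFiltered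

attribute [local instance] HasDerivedCategory.standard

variable {X : Scheme.{u}}

/-- `Ext` out of `j_! O_U` is cohomology on `U`. -/
noncomputable def extGen (U : X.Opens) (M : X.Modules) (k : ℕ) :
    Abelian.Ext.{u} ((DQC.gen X).obj U) M k → CohFound.Hc ((CohFound.abF X).obj M) k U :=
  fun x => CohFound.huExt _ k U (SiteCoh.extCompHom (R := SheafOfModules.toSheaf.{u} (ModSite.ringSh X.sheaf))
    (SiteRlim.univSection X.sheaf U) M k x)

theorem bijective_extGen (U : X.Opens) (M : X.Modules) (k : ℕ) : Function.Bijective (extGen U M k) :=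
  (CohFound.huExt _ k U).toEquiv.bijective.comp
    (SiteCoh.bijective_extCompHom (R := SheafOfModules.toSheaf.{u} (ModSite.ringSh X.sheaf))
      (SiteRlim.univSection X.sheaf U) (SiteRlim.bijective_univSection X.sheaf U)
      (fun I _ k => SiteCoh.subsingleton_ext_frP (SiteCoh.isTotallyAcyclic_injective _ I) (yoneda.obj U) k) k M)

theorem extGen_comp (U : X.Opens) {M N : X.Modules} (f : M ⟶ N) (k : ℕ)
    (x : Abelian.Ext.{u} ((DQC.gen X).obj U) M k) :
    extGen U N k (x.comp (Abelian.Ext.mk₀ f) (add_zero k)) =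
      CohFound.mp ((CohFound.abF X).map f) k U (extGen U M k x) := by
  refine Eq.trans (congrArg (CohFound.huExt _ k U) ?_) (CohFound.huExt_HUmap ((CohFound.abF X).map f) k U _)
  refine (SiteCoh.extCompHom_comp (SiteRlim.univSection X.sheaf U) x (Abelian.Ext.mk₀ f) (add_zero k)).trans ?_
  rw [Abelian.Ext.mapExactFunctor_mk₀]
  rfl

/-- Cohomology on quasi-compact quasi-separated opens commutes with coproducts. -/
theorem exists_finProj_ext {ι : Type u} {U : X.Opens} (hU : IsCompact (U : Set X))
    (hq : IsQuasiSeparated (U : Set X)) (M : ι → X.Modules) (k : ℕ)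
    (x : Abelian.Ext.{u} ((DQC.gen X).obj U) (∐ M) k) :
    ∃ s, x.comp (Abelian.Ext.mk₀ (finProj M s)) (add_zero k) = x := by
  classical
  haveI : HasFiniteBiproducts X.Modules := Abelian.hasFiniteBiproducts
  obtain ⟨S, η, hη⟩ := CohFound.exists_rep_hc
    (hc := isColimitOfPreserves (CohFound.abF X) (isColimitFiniteSubproductsCocone M)) k hU hq (extGen U (∐ M) k x)
  obtain ⟨y, rfl⟩ := (bijective_extGen U _ k).2 η
  let d : (liftToFinsetObj (Discrete.functor M)).obj S ⟶ ∐ M := (finiteSubcoproductsCocone M).ι.app S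
  have hx : x = y.comp (Abelian.Ext.mk₀ d) (add_zero k) :=
    (bijective_extGen U _ k).1 (hη.symm.trans (extGen_comp U d k y).symm)
  refine ⟨S.image (fun a => a.as), ?_⟩
  have hd : d ≫ finProj M (S.image fun a => a.as) = d := Sigma.hom_ext _ _ fun a => by
    have h : Sigma.ι (fun x : S => (Discrete.functor M).obj x) a ≫ d = Sigma.ι M a.1.as := Sigma.ι_desc _ a
    rw [reassoc_of% h, h, ι_finProj, if_pos (Finset.mem_image_of_mem _ a.2)]
  rw [hx, Abelian.Ext.comp_assoc _ _ _ (add_zero k) (add_zero 0) (by omega), Abelian.Ext.mk₀_comp_mk₀, hd]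

/-- Classes on quasi-compact quasi-separated opens in uniformly bounded below coproducts. -/
theorem finFac_classes {ι : Type u} {U : X.Opens} (hU : IsCompact (U : Set X))
    (hq : IsQuasiSeparated (U : Set X)) (K : ι → DCoh.D X) [HasCoproduct K] (a : ℤ) (hK : ∀ i, (K i).IsGE a)
    (m : ℤ) (f : (DerivedCategory.singleFunctor X.Modules m).obj ((DQC.gen X).obj U) ⟶ ∐ K) : FinFac K f :=
  finFac_of_isGE (exists_finProj_ext hU hq) m (m + 1 - a).toNat a (by omega) K hK f

end Scheme

end Groth.Agent.DPush
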