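import Groth.Agent.Lib.DPush.Compact
import Groth.Agent.Lib.DPerf.Coprod

/-! Derived direct images along qcqs morphisms commute with coproducts. -/

set_option autoImplicit false
set_option linter.style.haveILetI false
set_option linter.unusedSectionVars false
set_option backward.isDefEq.respectTransparency false
set_option backward.isDefEq.respectTransparency.types false

universe u

open CategoryTheory CategoryTheory.Limits AlgebraicGeometry TopologicalSpace Opposite CategoryTheory.Triangulated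
open DerivedCategory.TStructure Pretriangulated

namespace Groth.Agent.DPush

open scoped Classical
attribute [local instance] HasDerivedCategory.standard

local notation "HH" => DerivedCategory.homologyFunctor

section Trunc

variable {A : Type*} [Category.{u} A] [Abelian A] [IsGrothendieckAbelian.{u} A] [HasDerivedCategory A] {ι : Type u}

/-- Truncation commutes with coproducts. -/
theorem exists_truncGE_sigma (K : ι → DerivedCategory A) [HasCoproduct K] (a : ℤ)
    [HasCoproduct fun i => (t.truncGE a).obj (K i)] :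
    ∃ c : (t.truncGE a).obj (∐ K) ⟶ ∐ (fun i => (t.truncGE a).obj (K i)), IsIso c ∧
      (t.truncGEπ a).app (∐ K) ≫ c = Limits.Sigma.map (f := K) fun i => (t.truncGEπ a).app (K i) := by
  haveI : t.IsGE (∐ fun i => (t.truncGE a).obj (K i)) a :=
    isGE_sigma _ a fun i => (inferInstance : t.IsGE ((t.truncGE a).obj (K i)) a)
  let qm := Limits.Sigma.map (f := K) fun i => (t.truncGEπ a).app (K i)
  let c := t.descTruncGE qm a
  have hc : (t.truncGEπ a).app (∐ K) ≫ c = qm := t.π_descTruncGE qm a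
  refine ⟨c, (DerivedCategory.isIso_iff A c).2 fun m => ?_, hc⟩
  by_cases hm : a ≤ m
  · haveI : IsIso ((HH A m).map qm) := isIso_map_sigma _ m fun i =>
      DerTrunc.isIso_homology_truncGEπ (K i) a m hm
    haveI := DerTrunc.isIso_homology_truncGEπ (∐ K) a m hm
    haveI : IsIso ((HH A m).map ((t.truncGEπ a).app (∐ K)) ≫ (HH A m).map c) := by
      rw [← Functor.map_comp, hc]; infer_instance
    exact IsIso.of_isIso_comp_left ((HH A m).map ((t.truncGEπ a).app (∐ K))) _
  · haveI : DerivedCategory.IsGE ((t.truncGE a).obj (∐ K)) a := (inferInstance : t.IsGE _ a)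
    exact isIso_of_source_target_iso_zero _
      (DerivedCategory.isZero_of_isGE _ a m (by omega)).isoZero
      ((DerivedCategory.isZero_of_isGE (C := A) (∐ fun i => (t.truncGE a).obj (K i)) a m (by omega))).isoZero

end Trunc

variable {X S : Scheme.{u}} (f : X ⟶ S) [QuasiCompact f] [QuasiSeparated f]

/-- The preimage of an affine open is quasi-compact and quasi-separated. -/
theorem isCompact_preimage {W : S.Opens} (hW : IsAffineOpen W) :
    IsCompact ((f ⁻¹ᵁ W : X.Opens) : Set X) ∧ IsQuasiSeparated ((f ⁻¹ᵁ W : X.Opens) : Set X) := by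
  have : IsAffine (W : Scheme.{u}) := hW
  refine ⟨QuasiCompact.isCompact_preimage _ W.isOpen hW.isCompact, ?_⟩
  have : QuasiSeparatedSpace (f ⁻¹ᵁ W : X.Opens) := quasiSeparatedSpace_of_quasiSeparated (f ∣_ W)
  exact isQuasiSeparated_iff_quasiSeparatedSpace _ (f ⁻¹ᵁ W).2 |>.2 this

/-- Classes over preimages of affines in coproducts with quasi-coherent cohomology. -/
theorem finFac_classes_qcoh {ι : Type u} (K : ι → DCoh.D X) [HasCoproduct K] (hK : ∀ i, DCoh.IsQCohD (K i))
    {W : S.Opens} (hW : IsAffineOpen W) (m : ℤ)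
    (x : (DerivedCategory.singleFunctor X.Modules m).obj ((DQC.gen X).obj (f ⁻¹ᵁ W)) ⟶ ∐ K) : FinFac K x := by
  obtain ⟨d, hd⟩ := exists_bijective_truncTower f hW
  let n := ((d : ℤ) - m).toNat
  have h1 := hd (∐ K) (DPerf.isQCohD_sigma K hK) m n (by omega) 1
  rw [Scheme.basicOpen_of_isUnit _ isUnit_one] at h1
  haveI := hasCoproduct_D fun i => (t.truncGE (-(n : ℤ))).obj (K i)
  obtain ⟨c, _, hc⟩ := exists_truncGE_sigma K (-(n : ℤ))
  obtain ⟨s, hs⟩ := finFac_classes (isCompact_preimage f hW).1 (isCompact_preimage f hW).2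
    (fun i => (t.truncGE (-(n : ℤ))).obj (K i)) (-(n : ℤ))
    (fun i => (inferInstance : t.IsGE ((t.truncGE (-(n : ℤ))).obj (K i)) _)) m
    (x ≫ Limits.Sigma.map (f := K) fun i => (t.truncGEπ (-(n : ℤ))).app (K i))
  refine ⟨s, h1.1 ?_⟩
  change (x ≫ finProj K s) ≫ (t.truncGEπ (-(n : ℤ))).app (∐ K) = x ≫ (t.truncGEπ (-(n : ℤ))).app (∐ K)
  rw [← cancel_mono c, Category.assoc, Category.assoc, Category.assoc, hc, finProj_map, ← Category.assoc, hs]

variable [DCoh.HasRpush f]

/-- `Rf_*` commutes with coproducts whose classes over preimages of affines have finite support. -/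
theorem isIso_sigmaDesc {ι : Type u} (K : ι → DCoh.D X) [HasCoproduct K]
    [HasCoproduct fun i => (DCoh.Rpush f).obj (K i)]
    (h : ∀ (W : S.Opens), IsAffineOpen W → ∀ (m : ℤ)
      (x : (DerivedCategory.singleFunctor X.Modules m).obj ((DQC.gen X).obj (f ⁻¹ᵁ W)) ⟶ ∐ K), FinFac K x) :
    IsIso (Sigma.desc fun i => (DCoh.Rpush f).map (Sigma.ι K i)) := by
  obtain ⟨_, _⟩ := exists_commShift_isTriangulated f
  let R := DCoh.Rpush f
  let RK : ι → DCoh.D S := fun i => R.obj (K i)
  set φ : ∐ RK ⟶ R.obj (∐ K) := Sigma.desc fun i => R.map (Sigma.ι K i) with hφ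
  have hπ : ∀ i, φ ≫ R.map (Sigma.π K i) = Sigma.π RK i := fun i => Sigma.hom_ext _ _ fun j => by
    rw [hφ, Sigma.ι_desc_assoc, ← Functor.map_comp]
    by_cases hj : j = i
    · subst hj
      rw [Sigma.ι_π_eq_id, Sigma.ι_π_eq_id]
      exact R.map_id _
    · rw [Sigma.ι_π_of_ne K hj, Sigma.ι_π_of_ne RK hj, Functor.map_zero]
  have hfac : ∀ s, R.map (finProj K s) = (∑ i ∈ s, R.map (Sigma.π K i) ≫ Sigma.ι RK i) ≫ φ := fun s => by
    rw [Preadditive.sum_comp, finProj_eq_sum, Functor.map_sum]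
    simp [hφ, RK]
  have hG := DQC.localGen_gen S
  have hB : ∀ U : S.Opens, U ≤ ⊤ → ∀ x ∈ U, ∃ W ∈ {W : S.Opens | IsAffineOpen W}, x ∈ W ∧ W ≤ U := fun U _ x hx => by
    obtain ⟨W, hW, hxW, hWU⟩ := TopologicalSpace.Opens.isBasis_iff_nbhd.1 S.isBasis_affineOpens hx
    exact ⟨W, hW, hxW, hWU⟩
  have htop : ∀ U : S.Opens, (⊤ : Sieve U) ∈ Opens.grothendieckTopology S U := fun U => GrothendieckTopology.top_mem _ _
  refine (DerivedCategory.isIso_iff S.Modules φ).2 fun m => ?_
  let H := HH S.Modules m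
  haveI : Mono (H.map φ) := Preadditive.mono_of_cancel_zero _ fun {P} z hz => hG.gen z fun U y => by
    obtain ⟨T, hT, hT'⟩ := exists_basis_cover (fun U' _ => hB U' le_top) ⊤ (htop U)
    refine hG.sep _ T hT fun {U₂} g hg => ?_
    obtain ⟨W, p, q, hW, -, rfl⟩ := hT' g hg
    let w : (DQC.gen S).obj W ⟶ H.obj (∐ RK) := (DQC.gen S).map q ≫ y ≫ z
    suffices hw : w = 0 by
      change (DQC.gen S).map (p ≫ q) ≫ y ≫ z = 0
      rw [Functor.map_comp, Category.assoc]
      change _ ≫ w = 0
      rw [hw, comp_zero]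
    have hwπ : ∀ i, w ≫ H.map (Sigma.π RK i) = 0 := fun i => by
      simp only [w, ← hπ i, Functor.map_comp, Category.assoc, reassoc_of% hz, zero_comp, comp_zero]
    obtain ⟨s, hs⟩ := exists_finProj_ext hW.isCompact hW.isQuasiSeparated (fun i => H.obj (RK i)) 0
      (Abelian.Ext.mk₀ (w ≫ inv (sigmaComparison H RK)))
    rw [Abelian.Ext.mk₀_comp_mk₀] at hs
    have hs' := (Abelian.Ext.mk₀_bijective _ _).1 hs
    have e1 : inv (sigmaComparison H RK) ≫ finProj (fun i => H.obj (RK i)) s =
        H.map (finProj RK s) ≫ inv (sigmaComparison H RK) := by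
      rw [← cancel_epi (sigmaComparison H RK), IsIso.hom_inv_id_assoc, ← Category.assoc, ← finProj_comparison,
        Category.assoc, IsIso.hom_inv_id, Category.comp_id]
    rw [Category.assoc, e1, ← Category.assoc, cancel_mono] at hs'
    rw [← hs', finProj_eq_sum, Functor.map_sum, Preadditive.comp_sum]
    exact Finset.sum_eq_zero fun i _ => by rw [Functor.map_comp, reassoc_of% (hwπ i), zero_comp]
  haveI : Epi (H.map φ) := Preadditive.epi_of_isZero_cokernel _ (by
    rw [IsZero.iff_id_eq_zero]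
    refine hG.gen _ fun U z => ?_
    rw [Category.comp_id]
    obtain ⟨T, hT, hT'⟩ := hG.lift (cokernel.π (H.map φ)) z
    refine hG.sep _ T hT fun {U₁} g hg => ?_
    obtain ⟨ψ, hψ⟩ := hT' g hg
    rw [← hψ]
    obtain ⟨T₁, hT₁, hT₁'⟩ := SiteRlim.locally_exists_θ hG ψ
    obtain ⟨T₂, hT₂, hT₂'⟩ := exists_basis_cover (fun U' _ => hB U' le_top) T₁ hT₁
    refine hG.sep _ T₂ hT₂ fun {U₂} g' hg' => ?_
    obtain ⟨W, p, q, hW, hq, rfl⟩ := hT₂' g' hg'
    obtain ⟨cl, hcl⟩ := hT₁' q hq
    let adj := Scheme.Modules.pullbackPushforwardAdjunction f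
    obtain ⟨x, rfl⟩ := (SitePAdj.bijective_transpose adj (unit f) KInjLib.enoughKInj_of_grothendieck
      (isQuasiLiftable_adapted f) (adapted_gen f W) m (∐ K)).2 cl
    let σ := (DerivedCategory.singleFunctor X.Modules m).mapIso (pullGenIso f W)
    obtain ⟨s, hs⟩ := h W hW m (σ.hom ≫ x)
    rw [Category.assoc, cancel_epi] at hs
    rw [Functor.map_comp, Category.assoc, ← Category.assoc ((DQC.gen S).map q), ← hcl, ← hs,
      SitePAdj.transpose_comp, hfac, ← Category.assoc, SiteRlim.θ_comp]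
    simp [H])
  exact isIso_of_mono_of_epi _

end Groth.Agent.DPush
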