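import Groth.Agent.Lib.DPush.Adapted

/-! The derived direct image of a composite. -/

set_option autoImplicit false
set_option linter.style.haveILetI false
set_option linter.unusedSectionVars false
set_option backward.isDefEq.respectTransparency false
set_option backward.isDefEq.respectTransparency.types false

universe w w' w'' u v u' v'

open CategoryTheory CategoryTheory.Limits AlgebraicGeometry HomologicalComplex Abelian

namespace Groth.Agent.DPush

section General

variable {D : Type u'} [Category.{v'} D] [Abelian D] [HasExt.{w''} D] [HasDerivedCategory.{w'} D]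
  {A : Type u} [Category.{v} A] [Abelian A] [EnoughInjectives A] [HasDerivedCategory.{w} A]
  {R : A ⥤ D} {L : D ⥤ A} [R.Additive] [L.Additive] (adj : L ⊣ R)

local notation "σ" => HomologicalComplex.single

/-- Transposition of maps out of an object in a single degree. -/
noncomputable def adjSingle {X : D} {m : ℤ} {I : CochainComplex A ℤ}
    (k : (σ A (ComplexShape.up ℤ) m).obj (L.obj X) ⟶ I) :
    (σ D (ComplexShape.up ℤ) m).obj X ⟶ (R.mapHomologicalComplex (ComplexShape.up ℤ)).obj I :=
  (σ D (ComplexShape.up ℤ) m).map (adj.unit.app X) ≫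
    (singleMapHomologicalComplex R (ComplexShape.up ℤ) m).inv.app (L.obj X) ≫
      (R.mapHomologicalComplex (ComplexShape.up ℤ)).map k

theorem homEquiv_adjSingle {X : D} {m : ℤ} {I : CochainComplex A ℤ}
    (k : (σ A (ComplexShape.up ℤ) m).obj (L.obj X) ⟶ I) :
    (KInjLib.adjComplexes adj (ComplexShape.up ℤ)).homEquiv _ _
      ((singleMapHomologicalComplex L (ComplexShape.up ℤ) m).hom.app X ≫ k) = adjSingle adj k :=
  SitePAdj.homEquiv_single adj k

theorem exists_adjSingle {X : D} {m : ℤ} {I : CochainComplex A ℤ}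
    (ψ : (σ D (ComplexShape.up ℤ) m).obj X ⟶ (R.mapHomologicalComplex (ComplexShape.up ℤ)).obj I) :
    ∃ k : (σ A (ComplexShape.up ℤ) m).obj (L.obj X) ⟶ I, adjSingle adj k = ψ := by
  refine ⟨(singleMapHomologicalComplex L (ComplexShape.up ℤ) m).inv.app X ≫
    ((KInjLib.adjComplexes adj (ComplexShape.up ℤ)).homEquiv _ I).symm ψ, ?_⟩
  rw [← homEquiv_adjSingle, Iso.hom_inv_id_app_assoc]
  exact Equiv.apply_symm_apply _ ψ

/-- Homotopies transpose. -/
theorem nullHomotopic_adjSingle {X : D} {m : ℤ} {I : CochainComplex A ℤ}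
    (k : (σ A (ComplexShape.up ℤ) m).obj (L.obj X) ⟶ I) (H : Homotopy k 0) :
    Nonempty (Homotopy (adjSingle adj k) 0) :=
  ⟨((Homotopy.ofEq (Category.assoc _ _ _).symm).trans ((R.mapHomotopy H).compLeft _)).trans
    (Homotopy.ofEq (by simp))⟩

end General

attribute [local instance] HasDerivedCategory.standard

variable {X Y Z : Scheme.{u}} (f : X ⟶ Y) (g : Y ⟶ Z)

local notation "CC" => fun φ => Functor.mapHomologicalComplex (Scheme.Modules.pushforward φ) (ComplexShape.up ℤ)

/-- A class from `g^* j_! O_W` into `f_* I` vanishing in the derived category is null-homotopic. -/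
theorem nullHomotopic_into_push (W : Z.Opens) (m : ℤ) (I : CochainComplex X.Modules ℤ) [I.IsKInjective]
    (k : (single Y.Modules (ComplexShape.up ℤ) m).obj ((Scheme.Modules.pullback g).obj ((DQC.gen Z).obj W)) ⟶
      ((Scheme.Modules.pushforward f).mapHomologicalComplex (ComplexShape.up ℤ)).obj I)
    (h : DerivedCategory.Q.map k = 0) : Nonempty (Homotopy k 0) := by
  let adj := Scheme.Modules.pullbackPushforwardAdjunction f
  have hX : SitePAdj.Adapted.{u} (Scheme.Modules.pushforward f)
      ((Scheme.Modules.pullback g).obj ((DQC.gen Z).obj W)) :=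
    ObjectProperty.prop_of_iso _ (pullGenIso g W) (adapted_gen f (g ⁻¹ᵁ W))
  have h0 := SitePAdj.Q_map_adj_eq_zero adj (isQuasiLiftable_adapted f)
    (SitePAdj.isStrictPCAll_single hX m) I k h
  rw [← DerivedCategory.Q.map_zero] at h0
  obtain ⟨H⟩ := (KInjLib.map_eq_iff _ _).1 h0
  have hk : k = (KInjLib.adjComplexes adj (ComplexShape.up ℤ)).unit.app _ ≫
      ((Scheme.Modules.pushforward f).mapHomologicalComplex (ComplexShape.up ℤ)).map
        (((KInjLib.adjComplexes adj (ComplexShape.up ℤ)).homEquiv _ I).symm k) :=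
    ((Equiv.apply_symm_apply _ k).symm).trans (Adjunction.homEquiv_unit _ _ _ _)
  exact ⟨((Homotopy.ofEq hk).trans (((Scheme.Modules.pushforward f).mapHomotopy H).compLeft _)).trans
    (Homotopy.ofEq (by simp))⟩

variable [DCoh.HasRpush g]

/-- The direct image of a K-injective complex computes the next derived direct image. -/
theorem isIso_αQ_push (I : CochainComplex X.Modules ℤ) [I.IsKInjective] :
    IsIso ((SitePAdj.αQ (unit g)).app
      (((Scheme.Modules.pushforward f).mapHomologicalComplex (ComplexShape.up ℤ)).obj I)) := by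
  let P := ((Scheme.Modules.pushforward f).mapHomologicalComplex (ComplexShape.up ℤ)).obj I
  let adjg := Scheme.Modules.pullbackPushforwardAdjunction g
  let e : ((Scheme.Modules.pushforward g).mapHomologicalComplex (ComplexShape.up ℤ)).obj P ≅
      ((Scheme.Modules.pushforward (f ≫ g)).mapHomologicalComplex (ComplexShape.up ℤ)).obj I :=
    (Functor.mapHomologicalComplexCompIso (Scheme.Modules.pushforwardComp f g) (ComplexShape.up ℤ)).app I
  have ht := fun W m => SitePAdj.bijective_transpose adjg (unit g) KInjLib.enoughKInj_of_grothendieck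
    (isQuasiLiftable_adapted g) (adapted_gen g W) m (DerivedCategory.Q.obj P)
  refine SiteRlim.isIso_of_bijective (DQC.localGen_gen Z) _ fun W m => ⟨?_, fun y => ?_⟩
  · suffices key : ∀ x : (DerivedCategory.singleFunctor Z.Modules m).obj ((DQC.gen Z).obj W) ⟶
        DerivedCategory.Q.obj (((Scheme.Modules.pushforward g).mapHomologicalComplex (ComplexShape.up ℤ)).obj P),
        x ≫ (SitePAdj.αQ (unit g)).app P = 0 → x = 0 by
      intro x x' hxx
      exact sub_eq_zero.1 (key _ ((Preadditive.sub_comp _ _ _).trans (sub_eq_zero.2 hxx)))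
    intro x hx
    obtain ⟨h, hh⟩ := SitePAdj.exists_Q_map_eq (Scheme.Modules.pullbackPushforwardAdjunction (f ≫ g))
      (isQuasiLiftable_adapted (f ≫ g)) (SitePAdj.isStrictPCAll_single (adapted_gen (f ≫ g) W) m) I
      (x ≫ DerivedCategory.Q.map e.hom)
    have hx' : x = DerivedCategory.Q.map (h ≫ e.inv) := by
      rw [Functor.map_comp, hh]
      exact (Category.comp_id x).symm.trans ((congrArg (x ≫ ·)
        ((DerivedCategory.Q.mapIso e).hom_inv_id).symm).trans (Category.assoc _ _ _).symm)
    obtain ⟨k, hk⟩ := exists_adjSingle adjg (h ≫ e.inv)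
    obtain ⟨_, _⟩ := exists_commShift_isTriangulated g
    have hk0 : DerivedCategory.Q.map k = 0 := (ht W m).1 (by
      refine ((SitePAdj.transpose_Q_map adjg (unit g) k).trans ?_).trans
        (show (0 : _ ⟶ _) = SitePAdj.transpose adjg (unit g) 0 by simp [SitePAdj.transpose])
      change DerivedCategory.Q.map (adjSingle adjg k) ≫ _ = 0
      rw [hk, ← hx']
      exact hx)
    obtain ⟨H⟩ := nullHomotopic_into_push f g W m I k hk0
    obtain ⟨H'⟩ := nullHomotopic_adjSingle adjg k H
    rw [hx', ← hk, DerivedCategory.Q_map_eq_of_homotopy _ H', Functor.map_zero]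
  · obtain ⟨y', rfl⟩ := (ht W m).2 y
    have hX : SitePAdj.Adapted.{u} (Scheme.Modules.pushforward f)
        ((Scheme.Modules.pullback g).obj ((DQC.gen Z).obj W)) :=
      ObjectProperty.prop_of_iso _ (pullGenIso g W) (adapted_gen f (g ⁻¹ᵁ W))
    obtain ⟨k, rfl⟩ := SitePAdj.exists_Q_map_eq (Scheme.Modules.pullbackPushforwardAdjunction f)
      (isQuasiLiftable_adapted f) (SitePAdj.isStrictPCAll_single hX m) I y'
    exact ⟨DerivedCategory.Q.map (adjSingle adjg k), (SitePAdj.transpose_Q_map adjg (unit g) k).symm⟩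

theorem isIso_unit_push (I : CochainComplex X.Modules ℤ) [I.IsKInjective] :
    IsIso ((unit g).app ((HomotopyCategory.quotient Y.Modules (ComplexShape.up ℤ)).obj
      (((Scheme.Modules.pushforward f).mapHomologicalComplex (ComplexShape.up ℤ)).obj I))) := by
  have h := isIso_αQ_push f g I
  simp only [SitePAdj.αQ, NatTrans.comp_app, Functor.whiskerLeft_app, Functor.whiskerRight_app,
    Functor.associator_inv_app, isIso_comp_left_iff, isIso_comp_right_iff] at h
  exact h

variable [DCoh.HasRpush f] [DCoh.HasRpush (f ≫ g)]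

/-- The composite unit. -/
noncomputable def compUnit :
    (Scheme.Modules.pushforward (f ≫ g)).mapHomotopyCategory (ComplexShape.up ℤ) ⋙ DerivedCategory.Qh ⟶
      DerivedCategory.Qh ⋙ DCoh.Rpush f ⋙ DCoh.Rpush g :=
  Functor.whiskerRight (Functor.mapHomotopyCategoryCompIso (Scheme.Modules.pushforwardComp f g)
      (ComplexShape.up ℤ)).inv _ ≫ (Functor.associator _ _ _).hom ≫
    Functor.whiskerLeft _ (unit g) ≫ (Functor.associator _ _ _).inv ≫
    Functor.whiskerRight (unit f) _ ≫ (Functor.associator _ _ _).hom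

theorem isIso_compUnit (I : CochainComplex X.Modules ℤ) [I.IsKInjective] :
    IsIso ((compUnit f g).app ((HomotopyCategory.quotient X.Modules (ComplexShape.up ℤ)).obj I)) := by
  haveI h1 : IsIso ((unit g).app (((Scheme.Modules.pushforward f).mapHomotopyCategory (ComplexShape.up ℤ)).obj
      ((HomotopyCategory.quotient X.Modules (ComplexShape.up ℤ)).obj I))) := isIso_unit_push f g I
  haveI h2 : IsIso ((unit f).app ((HomotopyCategory.quotient X.Modules (ComplexShape.up ℤ)).obj I)) :=
    KInjLib.isIso_app_of_isKInjective KInjLib.enoughKInj_of_grothendieck (unit f) I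
  simp only [compUnit, NatTrans.comp_app, Functor.whiskerLeft_app, Functor.whiskerRight_app,
    Functor.associator_inv_app, Functor.associator_hom_app]
  infer_instance

/-- `R(g ∘ f)_* ⟶ Rg_* ∘ Rf_*`. -/
noncomputable def compHom : DCoh.Rpush (f ≫ g) ⟶ DCoh.Rpush f ⋙ DCoh.Rpush g :=
  (DCoh.Rpush (f ≫ g)).rightDerivedDesc (unit (f ≫ g)) (HomotopyCategory.quasiIso X.Modules (ComplexShape.up ℤ))
    _ (compUnit f g)

theorem isIso_compHom : IsIso (compHom f g) := by
  rw [NatTrans.isIso_iff_isIso_app]
  intro K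
  obtain ⟨I, hI, ⟨e⟩⟩ := KInjLib.exists_iso_kInjective K
  rw [NatTrans.isIso_app_iff_of_iso (compHom f g)
    (e ≪≫ ((DerivedCategory.quotientCompQhIso X.Modules).app I).symm)]
  haveI := KInjLib.isIso_app_of_isKInjective KInjLib.enoughKInj_of_grothendieck (unit (f ≫ g)) I
  haveI : IsIso ((unit (f ≫ g)).app ((HomotopyCategory.quotient X.Modules (ComplexShape.up ℤ)).obj I) ≫
      (compHom f g).app (DerivedCategory.Qh.obj ((HomotopyCategory.quotient X.Modules (ComplexShape.up ℤ)).obj I))) := by
    rw [compHom, Functor.rightDerived_fac_app]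
    exact isIso_compUnit f g I
  change IsIso ((compHom f g).app (DerivedCategory.Qh.obj ((HomotopyCategory.quotient X.Modules (ComplexShape.up ℤ)).obj I)))
  exact IsIso.of_isIso_comp_left ((unit (f ≫ g)).app _) _

/-- `Rg_* ∘ Rf_* ≅ R(g ∘ f)_*`. -/
noncomputable def compIso : DCoh.Rpush f ⋙ DCoh.Rpush g ≅ DCoh.Rpush (f ≫ g) :=
  haveI := isIso_compHom f g
  (asIso (compHom f g)).symm

end Groth.Agent.DPush
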