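import Groth.Agent.Lib.DQC.Affine
import Groth.Agent.Lib.SitePAdj16.Consequences
import Groth.Agent.Lib.CohFound.AffMor
import Groth.Agent.Lib.CohFound.Rpush
import Groth.Agent.Lib.SiteCoh.InjModule
import Groth.Agent.Lib.KInj.DerivedAdj

/-! The free modules `j_! O_U` are adapted to direct images; derived direct images on classes. -/

set_option autoImplicit false
set_option linter.style.haveILetI false
set_option linter.unusedSectionVars false
set_option backward.isDefEq.respectTransparency false
set_option backward.isDefEq.respectTransparency.types false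

universe u

open CategoryTheory CategoryTheory.Limits AlgebraicGeometry TopologicalSpace Opposite

namespace Groth.Agent.DPush

attribute [local instance] HasDerivedCategory.standard

variable {X Y : Scheme.{u}} (f : X ⟶ Y)

/-- An injective module has no cohomology on any open. -/
theorem subsingleton_hc_injective (I : X.Modules) [Injective I] (q : ℕ) (U : X.Opens) :
    Subsingleton (CohFound.Hc ((CohFound.abF X).obj I) (q + 1) U) :=
  haveI : @Injective (SheafOfModules X.ringCatSheaf) _ I := ‹Injective I›
  haveI : Subsingleton (CohSite.HU ((SheafOfModules.toSheaf X.ringCatSheaf).obj I) (q + 1) U) :=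
    SiteCoh.subsingleton_HU_of_totallyAcyclic
      (SiteCoh.isTotallyAcyclic_injective X.ringCatSheaf I) U q
  (CohFound.huExt ((CohFound.abF X).obj I) (q + 1) U).toEquiv.subsingleton_congr.1 this

/-- Direct images of injectives have no cohomology on any open. -/
theorem subsingleton_hc_push_injective (I : X.Modules) [Injective I] (q : ℕ) (V : Y.Opens) :
    Subsingleton (CohFound.Hc ((CohFound.abF Y).obj ((Scheme.Modules.pushforward f).obj I)) (q + 1) V) := by
  obtain ⟨e⟩ := CohFound.nonempty_hc_push_of_locKilled (f.base : CohFound.sp X ⟶ CohFound.sp Y) (q + 1)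
    ((CohFound.abF X).obj I) (fun p _ => fun W ξ y hy =>
      ⟨W, le_rfl, hy, @Subsingleton.elim _ (subsingleton_hc_injective I p _) _ _⟩) V
  haveI := subsingleton_hc_injective I q (f ⁻¹ᵁ V)
  exact ((CohFound.mpEquiv (CohFound.abFPushIso f I) (q + 1) V).trans e).toEquiv.subsingleton

/-- `j_! O_V` is adapted to `f_*`. -/
theorem adapted_gen (V : Y.Opens) :
    SitePAdj.Adapted.{u} (Scheme.Modules.pushforward f) ((DQC.gen Y).obj V) := fun I hI k => by
  haveI := hI
  exact SiteRlim.subsingleton_ext_freeOn Y.sheaf V ((Scheme.Modules.pushforward f).obj I) (k + 1)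
    ((CohFound.huExt _ (k + 1) V).toEquiv.subsingleton_congr.2 (subsingleton_hc_push_injective f I k V))

/-- Every module is a quotient of a sum of free modules. -/
theorem isQuasiLiftable_adapted :
    _root_.PCoh.IsQuasiLiftable (SitePAdj.Adapted.{u} (Scheme.Modules.pushforward f) : ObjectProperty Y.Modules) := by
  intro E F v hv _
  let G : (Σ U : Y.Opens, Γ(E, U)) → Y.Modules := fun p => (DQC.gen Y).obj p.1
  let e : ∐ G ⟶ E := Sigma.desc fun p => (DQC.genHom p.1 E).symm p.2
  haveI : Epi e := by
    refine Preadditive.epi_of_cancel_zero _ fun {Z} z hz => (DQC.localGen_gen Y).gen z fun U φ => ?_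
    have h := congrArg (Sigma.ι G ⟨U, DQC.genHom U E φ⟩ ≫ ·) hz
    simpa [e, G] using h
  exact ⟨∐ G, e, SitePAdj.adapted_sigma _ G fun p => adapted_gen f p.1, epi_comp e v⟩

/-- The inverse image of `j_! O_V`. -/
noncomputable def pullGenIso (V : Y.Opens) :
    (DQC.gen X).obj (f ⁻¹ᵁ V) ≅ (Scheme.Modules.pullback f).obj ((DQC.gen Y).obj V) :=
  DQC.isoOfHomEquiv
    (fun M => (((Scheme.Modules.pullbackPushforwardAdjunction f).homEquiv _ M).trans
      ((DQC.genHom V ((Scheme.Modules.pushforward f).obj M)).trans (DQC.genHom (f ⁻¹ᵁ V) M).symm)))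
    fun {M N} a b => by
      apply (DQC.genHom (f ⁻¹ᵁ V) N).injective
      simp only [Equiv.trans_apply]
      refine ((DQC.genHom (f ⁻¹ᵁ V) N).apply_symm_apply _).trans (Eq.trans ?_
        ((congrArg (b.app (f ⁻¹ᵁ V)) ((DQC.genHom (f ⁻¹ᵁ V) M).apply_symm_apply _)).symm.trans
          (DQC.genHom_comp _ _ b).symm))
      rw [Adjunction.homEquiv_naturality_right, DQC.genHom_comp]
      rfl

variable [DCoh.HasRpush f]

/-- The derived unit of `f_*`. -/
noncomputable abbrev unit :
    (Scheme.Modules.pushforward f).mapHomotopyCategory (ComplexShape.up ℤ) ⋙ DerivedCategory.Qh ⟶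
      DerivedCategory.Qh ⋙ DCoh.Rpush f :=
  (DCoh.pushKh f).totalRightDerivedUnit DerivedCategory.Qh
    (HomotopyCategory.quasiIso X.Modules (ComplexShape.up ℤ))

theorem exists_commShift_isTriangulated :
    ∃ _ : (DCoh.Rpush f).CommShift ℤ, (DCoh.Rpush f).IsTriangulated :=
  SiteRlim.exists_commShift_isTriangulated_map (unit f) KInjLib.enoughKInj_of_grothendieck

/-- `Rf_*` commutes with derived limits. -/
theorem isRlimVia_rpush (E : ℕ → DCoh.D X) (t : ∀ n, E (n + 1) ⟶ E n) [HasProduct E] (L : DCoh.D X)
    (a : ∀ n, L ⟶ E n) (hL : CohCx.IsRlimVia E t L a) [HasProduct fun n => (DCoh.Rpush f).obj (E n)] :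
    CohCx.IsRlimVia (fun n => (DCoh.Rpush f).obj (E n)) (fun n => (DCoh.Rpush f).map (t n))
      ((DCoh.Rpush f).obj L) (fun n => (DCoh.Rpush f).map (a n)) :=
  SitePAdj.isRlimVia_obj (Scheme.Modules.pullbackPushforwardAdjunction f) (unit f)
    KInjLib.enoughKInj_of_grothendieck (isQuasiLiftable_adapted f) (DQC.localGen_gen Y) (adapted_gen f) E t L a hL

end Groth.Agent.DPush
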