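import Groth.Agent.Lib.DPush.QCoh

/-! Derived direct images along affine morphisms. -/

set_option autoImplicit false
set_option linter.style.haveILetI false
set_option linter.unusedSectionVars false
set_option backward.isDefEq.respectTransparency false
set_option backward.isDefEq.respectTransparency.types false

universe u

open CategoryTheory CategoryTheory.Limits AlgebraicGeometry TopologicalSpace Opposite CategoryTheory.Triangulated
open Pretriangulated ZeroObject

namespace Groth.Agent.DPush

attribute [local instance] HasDerivedCategory.standard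

/-- The third vertex of a triangle with quasi-coherent cohomology at the first two. -/
theorem isQCohD_obj₃ {X : Scheme.{u}} (T : Triangle (DCoh.D X)) (hT : T ∈ distTriang _)
    (h₁ : DCoh.IsQCohD T.obj₁) (h₂ : DCoh.IsQCohD T.obj₂) : DCoh.IsQCohD T.obj₃ :=
  WayOut.cohIn_obj₂ (fun M : X.Modules => Coh.IsQCoh M) T.rotate (rot_of_distTriang _ hT) h₂
    (WayOut.cohIn_shift (fun M : X.Modules => Coh.IsQCoh M) (X := T.obj₁) 1 h₁)

/-- A quasi-coherent module without sections over an affine open vanishes there. -/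
theorem isZero_restrict_of_sections_affine {X : Scheme.{u}} {M : X.Modules} (hM : Coh.IsQCoh M) {V : X.Opens}
    (hV : IsAffineOpen V) (h : Subsingleton Γ(M, V)) : IsZero (M.restrict V.ι) := by
  have hN := M1.isQCoh_restrict hM hV.fromSpec
  haveI : (M.restrict hV.fromSpec).IsQuasicoherent := hN
  haveI : IsIso (M.restrict hV.fromSpec).fromTildeΓ :=
    Scheme.Modules.isIso_fromTildeΓ_of_isQuasicoherent (R := Γ(X, V)) _
  have hsec : hV.fromSpec ''ᵁ ⊤ = V := by rw [Scheme.Hom.image_top_eq_opensRange, IsAffineOpen.opensRange_fromSpec]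
  have h2 : Subsingleton Γ(M, hV.fromSpec ''ᵁ ⊤) := by rw [hsec]; exact h
  have h3 : IsZero (M.restrict hV.fromSpec) :=
    ((tilde.functor Γ(X, V)).map_isZero (@ModuleCat.isZero_of_subsingleton _ _
      ((moduleSpecΓFunctor (R := Γ(X, V))).obj (M.restrict hV.fromSpec)) h2)).of_iso
      (asIso (M.restrict hV.fromSpec).fromTildeΓ).symm
  exact ((Scheme.Modules.restrictFunctor hV.isoSpec.hom).map_isZero h3).of_iso
    (((Scheme.Modules.restrictFunctorCongr hV.isoSpec_hom_fromSpec.symm) ≪≫
      Scheme.Modules.restrictFunctorComp _ _).app M)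

/-- An object without cohomology vanishes. -/
theorem isZero_of_isZero_HD {X : Scheme.{u}} (C : DCoh.D X) (h : ∀ m, IsZero (DCoh.HD C m)) : IsZero C := by
  have : IsIso (0 : C ⟶ (0 : DCoh.D X)) := (DerivedCategory.isIso_iff X.Modules (0 : C ⟶ (0 : DCoh.D X))).2 fun m =>
    ⟨0, (h m).eq_of_src _ _, ((DerivedCategory.homologyFunctor X.Modules m).map_isZero (isZero_zero _)).eq_of_src _ _⟩
  exact (isZero_zero _).of_iso (asIso (0 : C ⟶ (0 : DCoh.D X)))

variable {X S : Scheme.{u}} (f : X ⟶ S) [DCoh.HasRpush f]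

/-- If `Rf_* C = 0` then `C` has no classes over preimages. -/
theorem subsingleton_classes (C : DCoh.D X) (hC : IsZero ((DCoh.Rpush f).obj C)) (m : ℤ) (W : S.Opens) :
    Subsingleton ((DerivedCategory.singleFunctor X.Modules m).obj ((DQC.gen X).obj (f ⁻¹ᵁ W)) ⟶ C) := by
  have h := (SitePAdj.bijective_transpose (Scheme.Modules.pullbackPushforwardAdjunction f) (unit f)
    KInjLib.enoughKInj_of_grothendieck (isQuasiLiftable_adapted f) (adapted_gen f W) m C).1
  refine (((DerivedCategory.singleFunctor X.Modules m).mapIso (pullGenIso f W)).homCongr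
    (Iso.refl C)).subsingleton_congr.2 ⟨fun x y => h (hC.eq_of_tgt _ _)⟩

/-- `Rf_*` detects vanishing for affine `f`. -/
theorem isZero_of_rpush [IsAffineHom f] (C : DCoh.D X) (hq : DCoh.IsQCohD C)
    (hC : IsZero ((DCoh.Rpush f).obj C)) : IsZero C := by
  have hcov : ∀ x : S, ∃ (V : S.Opens), x ∈ V ∧ IsAffineOpen V := fun x => by
    obtain ⟨V, hV, hxV, -⟩ := TopologicalSpace.Opens.isBasis_iff_nbhd.1 S.isBasis_affineOpens
      (TopologicalSpace.Opens.mem_top x)
    exact ⟨V, hxV, hV⟩
  choose V hxV hV using hcov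
  refine isZero_of_isZero_HD C fun m => ?_
  refine DPerf.isZero_of_cover (fun x : X => f ⁻¹ᵁ V (f.base x)) (fun x => ⟨x, hxV _⟩) fun x => ?_
  have ha : IsAffineOpen (f ⁻¹ᵁ V (f.base x)) := (hV _).preimage f
  refine isZero_restrict_of_sections_affine (hq m) ha ?_
  haveI := subsingleton_classes f C hC m (V (f.base x))
  exact ⟨fun s t => ((DQC.genHom (f ⁻¹ᵁ V (f.base x)) _).symm).injective
    ((DQC.bijective_θ C hq ha m).2.subsingleton.elim _ _)⟩

/-- `Rf_*` reflects isomorphisms between objects with quasi-coherent cohomology for affine `f`. -/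
theorem isIso_of_isIso_rpush [IsAffineHom f] {E F : DCoh.D X} (hE : DCoh.IsQCohD E) (hF : DCoh.IsQCohD F)
    (α : E ⟶ F) (hα : IsIso ((DCoh.Rpush f).map α)) : IsIso α := by
  obtain ⟨C, g, h, hT⟩ := Pretriangulated.distinguished_cocone_triangle α
  obtain ⟨_, _⟩ := exists_commShift_isTriangulated f
  exact (Triangle.isZero₃_iff_isIso₁ _ hT).1 (isZero_of_rpush f C (isQCohD_obj₃ _ hT hE hF)
    (((Triangle.isZero₃_iff_isIso₁ _ ((DCoh.Rpush f).map_distinguished _ hT)).2 hα)))

end Groth.Agent.DPush
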