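import Groth.Agent.Lib.DPush.Adapted
import Groth.Agent.Lib.CohFound.Qcqs
import Groth.Agent.Lib.CohFound.ModAb

/-! Derived direct images read off classes on a basis inside an open. -/

set_option autoImplicit false
set_option linter.style.haveILetI false
set_option linter.unusedSectionVars false
set_option backward.isDefEq.respectTransparency false
set_option backward.isDefEq.respectTransparency.types false

universe u

open CategoryTheory CategoryTheory.Limits AlgebraicGeometry TopologicalSpace Opposite CategoryTheory.Triangulated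
open DerivedCategory.TStructure

namespace Groth.Agent.DPush

attribute [local instance] HasDerivedCategory.standard

variable {X : Scheme.{u}}

/-- A covering sieve, refined to a basis. -/
theorem exists_basis_cover {B : Set X.Opens} {U : X.Opens}
    (hB : ∀ U' : X.Opens, U' ≤ U → ∀ x ∈ U', ∃ W ∈ B, x ∈ W ∧ W ≤ U')
    (S : Sieve U) (hS : S ∈ Opens.grothendieckTopology X U) :
    ∃ S' ∈ Opens.grothendieckTopology X U, ∀ {V : X.Opens} (g : V ⟶ U), S' g →
      ∃ (W : X.Opens) (p : V ⟶ W) (q : W ⟶ U), W ∈ B ∧ S q ∧ p ≫ q = g := by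
  refine ⟨Sieve.generate (fun {W} q => W ∈ B ∧ S q), fun x hx => ?_, fun {V} g hg => ?_⟩
  · obtain ⟨V', g', hg', hxV'⟩ := hS x hx
    obtain ⟨W, hW, hxW, hWV⟩ := hB V' (leOfHom g') x hxV'
    exact ⟨W, homOfLE hWV ≫ g', Sieve.le_generate _ _ _ ⟨hW, S.downward_closed hg' _⟩, hxW⟩
  · obtain ⟨W, p, q, ⟨hW, hq⟩, rfl⟩ := hg
    exact ⟨W, p, q, hW, hq, rfl⟩

variable {V : X.Opens} {B : Set X.Opens} (hB : ∀ U : X.Opens, U ≤ V → ∀ x ∈ U, ∃ W ∈ B, x ∈ W ∧ W ≤ U)
  {K K' : DCoh.D X} (φ : K ⟶ K') (m : ℤ)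
  (h : ∀ W ∈ B, Function.Bijective
    fun f : (DerivedCategory.singleFunctor X.Modules m).obj ((DQC.gen X).obj W) ⟶ K => f ≫ φ)

local notation "HH" => DerivedCategory.homologyFunctor

include hB h in
theorem eq_zero_of_comp_homology {U : X.Opens} (hU : U ≤ V)
    (z : (DQC.gen X).obj U ⟶ (HH X.Modules m).obj K) (hz : z ≫ (HH X.Modules m).map φ = 0) : z = 0 := by
  have hG := DQC.localGen_gen X
  obtain ⟨S, hS, hS'⟩ := SiteRlim.locally_exists_θ hG z
  refine hG.sep _ S hS fun {U₁} g hg => ?_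
  obtain ⟨f, hf⟩ := hS' g hg
  obtain ⟨T, hT, hT'⟩ := SiteRlim.locally_zero_of_θ hG (f ≫ φ) (by
    rw [SiteRlim.θ_comp, hf, Category.assoc, hz, comp_zero])
  obtain ⟨T', hT₁, hT₂⟩ := exists_basis_cover
    (fun U' hU' => hB U' (hU'.trans ((leOfHom g).trans hU))) T hT
  refine hG.sep _ T' hT₁ fun {U₂} g' hg' => ?_
  obtain ⟨W, p, q, hW, hq, rfl⟩ := hT₂ g' hg'
  have h0 : (DerivedCategory.singleFunctor X.Modules m).map ((DQC.gen X).map q) ≫ f = 0 := (h W hW).1 (by
    change (_ ≫ f) ≫ φ = 0 ≫ φ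
    rw [Category.assoc, hT' q hq, zero_comp])
  have h1 : (DQC.gen X).map q ≫ (DQC.gen X).map g ≫ z = 0 := by
    rw [← hf, ← SiteRlim.θ_pre, h0]
    simp [SiteRlim.θ]
  rw [Functor.map_comp, Category.assoc, h1, comp_zero]

include hB h in
theorem eq_zero_of_cokernel {U : X.Opens} (hU : U ≤ V)
    (z : (DQC.gen X).obj U ⟶ cokernel ((HH X.Modules m).map φ)) : z = 0 := by
  have hG := DQC.localGen_gen X
  obtain ⟨S, hS, hS'⟩ := hG.lift (cokernel.π ((HH X.Modules m).map φ)) z
  refine hG.sep _ S hS fun {U₁} g hg => ?_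
  obtain ⟨ψ, hψ⟩ := hS' g hg
  rw [← hψ]
  obtain ⟨T, hT, hT'⟩ := SiteRlim.locally_exists_θ hG ψ
  obtain ⟨T', hT₁, hT₂⟩ := exists_basis_cover
    (fun U' hU' => hB U' (hU'.trans ((leOfHom g).trans hU))) T hT
  refine hG.sep _ T' hT₁ fun {U₂} g' hg' => ?_
  obtain ⟨W, p, q, hW, hq, rfl⟩ := hT₂ g' hg'
  obtain ⟨f', hf'⟩ := hT' q hq
  obtain ⟨f, hf⟩ := (h W hW).2 f'
  rw [Functor.map_comp, Category.assoc, ← Category.assoc ((DQC.gen X).map q), ← hf',
    ← show f ≫ φ = f' from hf, SiteRlim.θ_comp]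
  simp

/-- Restriction kills a module without sections over small opens. -/
theorem isZero_restrict_of_sections (M : X.Modules)
    (hM : ∀ U : X.Opens, U ≤ V → ∀ z : (DQC.gen X).obj U ⟶ M, z = 0) : IsZero (M.restrict V.ι) := by
  rw [IsZero.iff_id_eq_zero]
  refine Scheme.Modules.hom_ext _ _ fun U => ?_
  ext s
  have hle : V.ι ''ᵁ U ≤ V := (V.ι.image_le_opensRange U).trans V.opensRange_ι.le
  have : ∀ t : Γ(M, V.ι ''ᵁ U), t = 0 := fun t => by
    have h1 := congrArg (DQC.genHom (V.ι ''ᵁ U) M) (hM _ hle ((DQC.genHom (V.ι ''ᵁ U) M).symm t))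
    rw [Equiv.apply_symm_apply] at h1
    rw [h1]
    have h2 := DQC.genHom_comp (V.ι ''ᵁ U) ((DQC.genHom (V.ι ''ᵁ U) M).symm t) (0 : M ⟶ M)
    rw [comp_zero] at h2
    exact h2
  change s = 0
  exact this s

include hB h in
/-- A map bijective on classes over a basis inside `V` is an isomorphism in cohomology on `V`. -/
theorem isIso_restrict_homology :
    IsIso ((Scheme.Modules.restrictFunctor V.ι).map ((HH X.Modules m).map φ)) := by
  let F := Scheme.Modules.restrictFunctor V.ι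
  have h1 : IsZero (F.obj (kernel ((HH X.Modules m).map φ))) := isZero_restrict_of_sections _ fun U hU z => by
    rw [← cancel_mono (kernel.ι ((HH X.Modules m).map φ)), zero_comp]
    exact eq_zero_of_comp_homology hB φ m h hU _ (by simp)
  have h2 : IsZero (F.obj (cokernel ((HH X.Modules m).map φ))) :=
    isZero_restrict_of_sections _ fun U hU z => eq_zero_of_cokernel hB φ m h hU z
  haveI : Mono (F.map ((HH X.Modules m).map φ)) :=
    Preadditive.mono_of_isZero_kernel _ (h1.of_iso (PreservesKernel.iso F _).symm)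
  haveI : Epi (F.map ((HH X.Modules m).map φ)) :=
    Preadditive.epi_of_isZero_cokernel _ (h2.of_iso (PreservesCokernel.iso F _).symm)
  exact isIso_of_mono_of_epi _

end Groth.Agent.DPush
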